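import Mathlib
import Groth.Prelude.Def_Dual3
import Groth.Agent.Lib.Helper4.DimIneq1

/-!
# The residue transcendence degree of `Spec.map` in terms of residue fields of primes (helper5)
-/

set_option autoImplicit false
set_option backward.isDefEq.respectTransparency.types false
universe u
open AlgebraicGeometry CategoryTheory

namespace Groth.Agent.Lib.Helper5.S2Rel

theorem resTrdeg_spec (R A : Type u) [CommRing R] [CommRing A] [Algebra R A]
    (q : PrimeSpectrum A) :
    Dual3.resTrdeg (Spec.map (CommRingCat.ofHom (algebraMap R A))) q =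
      @Algebra.trdeg (q.asIdeal.comap (algebraMap R A)).ResidueField q.asIdeal.ResidueField _ _
        (Ideal.ResidueField.mapₐ (q.asIdeal.comap (algebraMap R A)) q.asIdeal
          (Algebra.ofId R A) rfl).toRingHom.toAlgebra := by
  unfold Dual3.resTrdeg
  set f : Spec (CommRingCat.of A) ⟶ Spec (CommRingCat.of R) :=
    Spec.map (CommRingCat.ofHom (algebraMap R A)) with hf
  let x : ↥(Spec (CommRingCat.of A)) := q
  set 𝔯 : Ideal R := q.asIdeal.comap (algebraMap R A) with h𝔯
  letI algS : Algebra ((Spec (CommRingCat.of R)).residueField (f x))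
      ((Spec (CommRingCat.of A)).residueField x) := (f.residueFieldMap x).hom.toAlgebra
  letI algK : Algebra 𝔯.ResidueField q.asIdeal.ResidueField :=
    (Ideal.ResidueField.mapₐ 𝔯 q.asIdeal (Algebra.ofId R A) rfl).toRingHom.toAlgebra
  let e₁ : (Spec (CommRingCat.of R)).residueField (f x) ≃+* 𝔯.ResidueField :=
    (Scheme.Spec.residueFieldIso (CommRingCat.of R) (f x)).commRingCatIsoToRingEquiv
  let e₂ : (Spec (CommRingCat.of A)).residueField x ≃+* q.asIdeal.ResidueField :=
    (Scheme.Spec.residueFieldIso (CommRingCat.of A) x).commRingCatIsoToRingEquiv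
  refine Groth.Agent.Lib.Helper4.DimIneq1.trdeg_eq_of_ringEquiv e₁ e₂ ?_
  -- the two ring homs `κ(𝔯) → κ(q)`
  let g₂ : 𝔯.ResidueField →+* q.asIdeal.ResidueField :=
    (e₂ : _ →+* _).comp ((f.residueFieldMap x).hom.comp (e₁.symm : _ →+* _))
  have hg : algebraMap 𝔯.ResidueField q.asIdeal.ResidueField = g₂ := by
    apply IsLocalization.ringHom_ext (nonZeroDivisors (R ⧸ 𝔯))
    apply Ideal.Quotient.ringHom_ext
    ext a
    simp only [RingHom.comp_apply]
    have e1 : algebraMap (R ⧸ 𝔯) 𝔯.ResidueField (Ideal.Quotient.mk 𝔯 a) =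
        algebraMap R 𝔯.ResidueField a := rfl
    rw [e1]
    have hL : algebraMap 𝔯.ResidueField q.asIdeal.ResidueField (algebraMap R 𝔯.ResidueField a) =
        algebraMap A q.asIdeal.ResidueField (algebraMap R A a) := by
      change Ideal.ResidueField.map 𝔯 q.asIdeal _ _ (algebraMap R 𝔯.ResidueField a) = _
      rw [Ideal.ResidueField.map_algebraMap]
      rfl
    rw [hL]
    have h1 := congrArg (fun φ => φ.hom a)
      (Scheme.Spec.algebraMap_residueFieldIso_inv (CommRingCat.of R) (f x))
    have h2 := congrArg (fun φ => φ.hom (algebraMap R A a))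
      (Scheme.Spec.algebraMap_residueFieldIso_inv (CommRingCat.of A) x)
    have h3 := congrArg (fun φ => φ.hom a)
      (Scheme.ΓSpecIso_inv_naturality (CommRingCat.ofHom (algebraMap R A)))
    simp only [CommRingCat.hom_comp, RingHom.comp_apply, CommRingCat.hom_ofHom] at h1 h2 h3
    have s1 : g₂ (algebraMap R 𝔯.ResidueField a) =
        e₂ ((f.residueFieldMap x).hom
          ((Scheme.Spec.residueFieldIso (CommRingCat.of R) (f x)).inv.hom
            (algebraMap R 𝔯.ResidueField a))) := rfl
    have s2 := Scheme.Γevaluation_naturality_apply f x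
      ((Scheme.ΓSpecIso (CommRingCat.of R)).inv.hom a)
    have s3 : (Spec (CommRingCat.of R)).Γevaluation (f x)
        ((Scheme.ΓSpecIso (CommRingCat.of R)).inv.hom a) =
        (Scheme.Spec.residueFieldIso (CommRingCat.of R) (f x)).inv.hom
          (algebraMap R 𝔯.ResidueField a) := h1.symm
    have s4 : (Spec (CommRingCat.of A)).Γevaluation x
        ((Scheme.ΓSpecIso (CommRingCat.of A)).inv.hom (algebraMap R A a)) =
        (Scheme.Spec.residueFieldIso (CommRingCat.of A) x).inv.hom
          (algebraMap A q.asIdeal.ResidueField (algebraMap R A a)) := h2.symm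
    rw [s1, ← s3, s2, ← h3, s4]
    exact ((Scheme.Spec.residueFieldIso (CommRingCat.of A)
      x).commRingCatIsoToRingEquiv.apply_symm_apply _).symm
  ext z
  obtain ⟨w, rfl⟩ := e₁.symm.surjective z
  simp only [RingHom.comp_apply, RingHom.coe_coe, RingEquiv.apply_symm_apply]
  rw [hg]
  rfl

end Groth.Agent.Lib.Helper5.S2Rel
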