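import Mathlib
import Groth.Agent.Lib.Helper5.S2Rel.Bridge
import Groth.Agent.Lib.Helper5.SmFib.TrdegNat
import Groth.Agent.Lib.Helper5.SmFib.FibDim
import Groth.Agent.Lib.Helper5.SmFib.Dim

/-!
# The height of the kernel of a presentation, from residue transcendence degrees (helper5)
-/

set_option autoImplicit false
universe u
open AlgebraicGeometry CategoryTheory

namespace Groth.Agent.Lib.Helper5.S2Rel

open Groth.Agent.Lib.Helper5.SmFib

theorem le_height_ker (R A : Type u) [CommRing R] [CommRing A] [IsNoetherianRing R]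
    [Algebra R A] (n : ℕ) (ψ : MvPolynomial (Fin n) R →ₐ[R] A) (hψ : Function.Surjective ψ)
    (r : ℕ)
    (hr : ∀ q : PrimeSpectrum A, q.asIdeal ∈ minimalPrimes A →
      Dual3.resTrdeg (Spec.map (CommRingCat.ofHom (algebraMap R A))) q ≤ (r : Cardinal.{u})) :
    ((n - r : ℕ) : ℕ∞) ≤ (RingHom.ker ψ.toRingHom).height := by
  haveI : Algebra.FiniteType R A := Algebra.FiniteType.of_surjective ψ hψ
  set P := MvPolynomial (Fin n) R with hP
  rw [Ideal.height_eq_inf_minimalPrimes]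
  refine le_iInf₂ fun Q hQ => ?_
  rw [RingHom.ker_eq_comap_bot, Ideal.comap_minimalPrimes_eq_of_surjective hψ] at hQ
  obtain ⟨q', hq', rfl⟩ := hQ
  haveI hq'p : q'.IsPrime := hq'.1.1
  set 𝔯 : Ideal R := q'.comap (algebraMap R A) with h𝔯
  haveI : 𝔯.IsPrime := Ideal.comap_isPrime _ _
  have hQr : (q'.comap ψ.toRingHom).comap (algebraMap R P) = 𝔯 := by
    rw [Ideal.comap_comap]
    congr 1
    ext x
    exact ψ.commutes x
  obtain ⟨t, ht⟩ := exists_trdeg_nat R A 𝔯 q' rfl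
  have htr : t ≤ r := by
    have h1 := hr ⟨q', hq'p⟩ hq'
    rw [resTrdeg_spec] at h1
    have h2 : (t : Cardinal.{u}) ≤ (r : Cardinal.{u}) := ht ▸ h1
    exact_mod_cast h2
  have htQ := trdeg_comap_of_surjective R P A ψ hψ q' 𝔯 rfl (q'.comap ψ.toRingHom) rfl hQr
  rw [ht] at htQ
  obtain ⟨htn, hdim⟩ := dim_fibLocRing R P 𝔯 (q'.comap ψ.toRingHom) hQr n
    (smoothRelDim_mvPolynomial R n) t htQ
  have h1 : ringKrullDim (EGA4.FibLocRing R P (q'.comap ψ.toRingHom)) ≤
      ringKrullDim (Localization.AtPrime (q'.comap ψ.toRingHom)) := ringKrullDim_quotient_le _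
  rw [hdim, IsLocalization.AtPrime.ringKrullDim_eq_height (q'.comap ψ.toRingHom)] at h1
  have h2 : ((n - t : ℕ) : ℕ∞) ≤ (q'.comap ψ.toRingHom).height := by
    have h3 : (((n - t : ℕ) : ℕ∞) : WithBot ℕ∞) ≤ ((q'.comap ψ.toRingHom).height : WithBot ℕ∞) :=
      h1
    exact WithBot.coe_le_coe.mp h3
  refine le_trans ?_ h2
  exact_mod_cast Nat.sub_le_sub_left htr n

end Groth.Agent.Lib.Helper5.S2Rel
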