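import Mathlib
import Groth.Prelude.Def_CAlg
import Groth.Agent.Lib.Helper5.S2Rel.Height
import Groth.Agent.Lib.Helper8.CMPoly1
import Groth.Agent.Lib.Helper8.Depth19
import Groth.Agent.Lib.Helper6.GrCM.Descent
import Groth.Agent.Lib.Helper4.StalkClosedPt1

/-!
# The localized polynomial ring over a Cohen–Macaulay local ring, and the depth of the kernel
of a presentation (helper5)
-/

set_option autoImplicit false
universe u
open AlgebraicGeometry CategoryTheory

namespace Groth.Agent.Lib.Helper5.S2Rel

open LocCoh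

theorem isCohenMacaulayRing_localization_mvPolynomial (R : Type u) [CommRing R]
    [IsNoetherianRing R] (n : ℕ) (p : Ideal R) [p.IsPrime]
    [LocCoh.IsCohenMacaulayLocalRing (Localization.AtPrime p)] :
    LocCoh.IsCohenMacaulayRing
      (Localization (Algebra.algebraMapSubmonoid (MvPolynomial (Fin n) R) p.primeCompl)) := by
  haveI : IsNoetherianRing (Localization.AtPrime p) :=
    IsLocalization.isNoetherianRing p.primeCompl _ inferInstance
  have hRp : IsCohenMacaulayRing (Localization.AtPrime p) :=
    { isCohenMacaulayLocalRing_localization := fun 𝔭 _ =>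
        Groth.Agent.Lib.Helper4.StalkClosedPt1.cm_localization (Localization.AtPrime p) 𝔭 }
  have h1 := Groth.Agent.Helper8.CMPoly.isCohenMacaulayRing_mvPolynomial
    (Localization.AtPrime p) hRp n
  letI := MvPolynomial.algebraMvPolynomial (σ := Fin n) (R := R) (S := Localization.AtPrime p)
  haveI h2 : IsLocalization (p.primeCompl.map (MvPolynomial.C (σ := Fin n)))
      (MvPolynomial (Fin n) (Localization.AtPrime p)) :=
    MvPolynomial.isLocalization p.primeCompl _
  have h3 : Algebra.algebraMapSubmonoid (MvPolynomial (Fin n) R) p.primeCompl =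
      p.primeCompl.map (MvPolynomial.C (σ := Fin n)) := rfl
  haveI h4 : IsLocalization (Algebra.algebraMapSubmonoid (MvPolynomial (Fin n) R) p.primeCompl)
      (MvPolynomial (Fin n) (Localization.AtPrime p)) := h3 ▸ h2
  let e := IsLocalization.algEquiv
    (Algebra.algebraMapSubmonoid (MvPolynomial (Fin n) R) p.primeCompl)
    (MvPolynomial (Fin n) (Localization.AtPrime p))
    (Localization (Algebra.algebraMapSubmonoid (MvPolynomial (Fin n) R) p.primeCompl))
  exact Groth.Agent.Lib.Helper6.GrCM.isCohenMacaulayRing_of_ringEquiv e.toRingEquiv h1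

theorem le_idealDepth_map_ker (R A : Type u) [CommRing R] [CommRing A] [IsNoetherianRing R]
    [Algebra R A] (n : ℕ) (ψ : MvPolynomial (Fin n) R →ₐ[R] A) (hψ : Function.Surjective ψ)
    (r : ℕ)
    (hr : ∀ q : PrimeSpectrum A, q.asIdeal ∈ minimalPrimes A →
      Dual3.resTrdeg (Spec.map (CommRingCat.ofHom (algebraMap R A))) q ≤ (r : Cardinal.{u}))
    (p : Ideal R) [p.IsPrime] [LocCoh.IsCohenMacaulayLocalRing (Localization.AtPrime p)]
    (hne : (RingHom.ker ψ.toRingHom).map (algebraMap (MvPolynomial (Fin n) R)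
      (Localization (Algebra.algebraMapSubmonoid (MvPolynomial (Fin n) R) p.primeCompl))) ≠ ⊤) :
    ((n - r : ℕ) : ℕ∞) ≤ idealDepth ((RingHom.ker ψ.toRingHom).map
      (algebraMap (MvPolynomial (Fin n) R)
        (Localization (Algebra.algebraMapSubmonoid (MvPolynomial (Fin n) R) p.primeCompl))))
      (Localization (Algebra.algebraMapSubmonoid (MvPolynomial (Fin n) R) p.primeCompl)) := by
  have hCM := isCohenMacaulayRing_localization_mvPolynomial R n p
  haveI : IsNoetherianRing
      (Localization (Algebra.algebraMapSubmonoid (MvPolynomial (Fin n) R) p.primeCompl)) :=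
    IsLocalization.isNoetherianRing
      (Algebra.algebraMapSubmonoid (MvPolynomial (Fin n) R) p.primeCompl) _ inferInstance
  rw [(Groth.Agent.Helper8.Depth.isCohenMacaulayRing_iff_idealDepth_eq_height).mp hCM _ hne,
    Ideal.height_eq_inf_minimalPrimes]
  refine le_iInf₂ fun 𝔔 h𝔔 => ?_
  haveI : 𝔔.IsPrime := h𝔔.1.1
  rw [← IsLocalization.height_under
    (Algebra.algebraMapSubmonoid (MvPolynomial (Fin n) R) p.primeCompl) 𝔔]
  refine le_trans (le_height_ker R A n ψ hψ r hr) (Ideal.height_mono ?_)
  exact Ideal.map_le_iff_le_comap.mp h𝔔.1.2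

end Groth.Agent.Lib.Helper5.S2Rel
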