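import Mathlib
import Groth.Prelude.Def_CAlg
import Groth.Agent.Lib.Helper4.DH3
import Groth.Agent.Lib.Helper8.FinRes5

/-!
# Transporting `(S_k)` and vanishing from a base change over `S⁻¹P` to the localization of an
`A`-module at the image of `S` (helper5)
-/

set_option autoImplicit false
universe u v
open TensorProduct

namespace Groth.Agent.Lib.Helper5.S2Rel

open LocCoh

theorem localizedModule_of_baseChange {P A : Type u} [CommRing P] [CommRing A] [Algebra P A]
    [IsNoetherianRing P] [IsNoetherianRing A]
    (S : Submonoid P) (T : Submonoid A) (hT : T = Algebra.algebraMapSubmonoid A S)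
    (H : Type u) [AddCommGroup H] [Module A H] [Module P H] [IsScalarTower P A H]
    (E' : Type v) [AddCommGroup E'] [Module (Localization S) E']
    (φ : (Localization S) ⊗[P] H ≃ₗ[Localization S] E') :
    (Subsingleton E' → Subsingleton (LocalizedModule T H)) ∧
      (∀ k : ℕ, Module.Finite (Localization S) E' → HasSk k (Localization S) E' →
        HasSk k (Localization T) (LocalizedModule T H)) := by
  subst hT
  set T := Algebra.algebraMapSubmonoid A S with hTdef
  set P' := Localization S with hP'
  set A' := Localization T with hA'
  set M := LocalizedModule T H with hM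
  haveI : IsNoetherianRing P' := IsLocalization.isNoetherianRing S _ inferInstance
  haveI : IsNoetherianRing A' := IsLocalization.isNoetherianRing T _ inferInstance
  letI modP'M : Module P' M := Module.compHom M (algebraMap P' A')
  haveI st1 : IsScalarTower P' A' M := ⟨fun x a m => by
    change (x • a) • m = (algebraMap P' A' x) • (a • m)
    rw [Algebra.smul_def, mul_smul]⟩
  haveI st3 : IsScalarTower P P' M := ⟨fun x y m => by
    change (algebraMap P' A' (x • y)) • m = x • ((algebraMap P' A' y) • m)
    have h1 : algebraMap P' A' (x • y) = x • algebraMap P' A' y :=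
      map_smul (IsScalarTower.toAlgHom P P' A') x y
    rw [h1, smul_assoc]⟩
  let f : H →ₗ[P] M := (LocalizedModule.mkLinearMap T H).restrictScalars P
  haveI : IsLocalizedModule S f := IsLocalizedModule.restrictScalars S
    (LocalizedModule.mkLinearMap T H)
  have hbc : IsBaseChange P' f := IsLocalizedModule.isBaseChange S P' f
  let Φ : M ≃ₗ[P'] E' := hbc.equiv.symm ≪≫ₗ φ
  refine ⟨fun h => Φ.toEquiv.subsingleton, fun k hfin hE => ?_⟩
  haveI : Module.Finite P' M := Module.Finite.equiv Φ.symm
  have h1 : HasSk k P' M := Groth.Agent.Helper4.DH.hasSk_congr k Φ.symm hE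
  exact Groth.Agent.Helper8.FinRes.hasSk_of_hasSk_base P' A' M k h1

end Groth.Agent.Lib.Helper5.S2Rel
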