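import Mathlib
import Groth.Agent.Lib.Helper8.ExtReg3

/-!
# The Rees isomorphism `Ext^n(N, M) ≅ Hom(N, M/xs M)` as a linear equivalence (helper5)
-/

set_option autoImplicit false

namespace Groth.Agent.Lib.Helper5.S2Rel

open CategoryTheory Abelian RingTheory.Sequence Pointwise
open Groth.Agent.Helper8.ExtReg

universe u
variable {A : Type u} [CommRing A]

/-- covariant `Ext` is invariant under isomorphisms in the second variable, linearly -/
noncomputable def extCongrRightL (X : ModuleCat.{u} A) {Y Y' : ModuleCat.{u} A} (e : Y ≅ Y')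
    (n : ℕ) : Ext X Y n ≃ₗ[A] Ext X Y' n :=
  { extCongrRight X e n with
    map_smul' := fun a x => by
      change (a • x).comp (Ext.mk₀ e.hom) (add_zero n) = a • (x.comp (Ext.mk₀ e.hom) (add_zero n))
      rw [Ext.smul_comp] }

theorem step_lin (N M : ModuleCat.{u} A) (x : A) (hx : IsSMulRegular M x)
    (hN : ∀ n : N, x • n = 0) (i : ℕ)
    (hvan : ∀ q, q < i → Subsingleton (Ext N (ModuleCat.of A (QuotSMulTop x M)) q)) :
    Nonempty (Ext N (ModuleCat.of A (QuotSMulTop x M)) i ≃ₗ[A] Ext N M (i + 1)) := by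
  have hS : (M.smulShortComplex x).ShortExact := hx.smulShortComplex_shortExact
  have hf : (M.smulShortComplex x).f = x • 𝟙 M := rfl
  have hvanM : ∀ q, q < i + 1 → Subsingleton (Ext N M q) := (step' N M x hx hN i hvan).1
  let δ : Ext N (ModuleCat.of A (QuotSMulTop x M)) i →ₗ[A] Ext N M (i + 1) :=
    Ext.postcompOfLinear hS.extClass A N rfl
  have hsurj : Function.Surjective δ := by
    intro x₁
    have h0 : (show Ext N (M.smulShortComplex x).X₁ (i + 1) from x₁).comp
        (Ext.mk₀ (M.smulShortComplex x).f) (add_zero (i + 1)) = 0 := by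
      rw [hf]
      exact (comp_mk₀_smul_id N M x (i + 1) x₁).trans (smul_ext_eq_zero N M x hN _ _)
    obtain ⟨x₃, hx₃⟩ := Ext.covariant_sequence_exact₁ N hS x₁ h0 rfl
    exact ⟨x₃, hx₃⟩
  have hinj : Function.Injective δ := by
    rw [injective_iff_map_eq_zero]
    intro x₃ hx₃
    obtain ⟨x₂, hx₂⟩ := Ext.covariant_sequence_exact₃ N hS x₃ rfl hx₃
    have : Subsingleton (Ext N (M.smulShortComplex x).X₂ i) := hvanM i (by omega)
    rw [← hx₂, Subsingleton.elim x₂ 0, Ext.zero_comp]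
    rfl
  exact ⟨LinearEquiv.ofBijective δ ⟨hinj, hsurj⟩⟩

theorem rees_lin (N : ModuleCat.{u} A) : ∀ (xs : List A) (M : ModuleCat.{u} A),
    IsWeaklyRegular M xs → (∀ x ∈ xs, ∀ n : N, x • n = 0) →
    Nonempty (Ext N (ModuleCat.of A (M ⧸ (Ideal.ofList xs • ⊤ : Submodule A M))) 0 ≃ₗ[A]
      Ext N M xs.length) := by
  intro xs
  induction xs with
  | nil =>
    intro M _ _
    have h1 : (Ideal.ofList ([] : List A) • ⊤ : Submodule A M) = ⊥ := by
      rw [Ideal.ofList_nil, Submodule.bot_smul]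
    exact ⟨extCongrRightL N (Submodule.quotEquivOfEqBot _ h1).toModuleIso 0⟩
  | cons x xs' ih =>
    intro M hreg hN
    rw [isWeaklyRegular_cons_iff] at hreg
    obtain ⟨e2⟩ := ih (ModuleCat.of A (QuotSMulTop x M)) hreg.2
      (fun y hy => hN y (List.mem_cons_of_mem _ hy))
    have hvan' := (main_aux' N xs' (ModuleCat.of A (QuotSMulTop x M)) hreg.2
      (fun y hy => hN y (List.mem_cons_of_mem _ hy))).1
    obtain ⟨e1⟩ := step_lin N M x hreg.1 (hN x List.mem_cons_self) xs'.length hvan'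
    exact ⟨(extCongrRightL N
      (Submodule.quotOfListConsSMulTopEquivQuotSMulTopInner M x xs').toModuleIso 0).trans
        (e2.trans e1)⟩

/-- the Rees isomorphism in terms of linear maps -/
theorem rees_linearMap (N M : Type u) [AddCommGroup N] [Module A N] [AddCommGroup M] [Module A M]
    (xs : List A) (hreg : IsWeaklyRegular M xs) (hN : ∀ x ∈ xs, ∀ n : N, x • n = 0) :
    Nonempty ((N →ₗ[A] (M ⧸ (Ideal.ofList xs • ⊤ : Submodule A M))) ≃ₗ[A]
      Ext (ModuleCat.of A N) (ModuleCat.of A M) xs.length) := by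
  obtain ⟨e⟩ := rees_lin (ModuleCat.of A N) xs (ModuleCat.of A M) hreg hN
  exact ⟨(ModuleCat.homLinearEquiv (S := A) (M := ModuleCat.of A N)
    (N := ModuleCat.of A (M ⧸ (Ideal.ofList xs • ⊤ : Submodule A M)))).symm ≪≫ₗ
    (Ext.linearEquiv₀ (R := A)).symm ≪≫ₗ e⟩

end Groth.Agent.Lib.Helper5.S2Rel
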