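import Mathlib
import Groth.Prelude.Def_Wider
import Groth.Prelude.Def_CAlg
import Groth.Agent.Lib.Helper5.S2Rel.Rees
import Groth.Agent.Lib.Helper4.DH3
import Groth.Agent.Lib.Helper8.Depth33
import Groth.Agent.Lib.Helper8.Depth5
import Groth.Agent.Lib.Helper6.InvCM.ICi

/-!
# `Ext^c(S/J, S)` satisfies `(S₂)` over a Cohen–Macaulay ring when `c ≤ depth_J S` (helper5)
-/

set_option autoImplicit false
universe u
open CategoryTheory CategoryTheory.Limits DerivedCategory Pretriangulated Triangulated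

attribute [local instance] HasDerivedCategory.standard

namespace Groth.Agent.Lib.Helper5.S2Rel

open LocCoh RingTheory.Sequence

theorem hasSk_extHom (S : Type u) [CommRing S] [IsNoetherianRing S] (hCM : IsCohenMacaulayRing S)
    (J : Ideal S) (hJ : J ≠ ⊤) (c : ℕ) (hc : (c : ℕ∞) ≤ idealDepth J S) :
    Module.Finite S (Dual.inD S (S ⧸ J) ⟶ (Dual.inD S S)⟦(c : ℤ)⟧) ∧
      HasSk 2 S (Dual.inD S (S ⧸ J) ⟶ (Dual.inD S S)⟦(c : ℤ)⟧) := by
  have hsm : J • (⊤ : Submodule S S) ≠ ⊤ := by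
    rw [smul_eq_mul, Ideal.mul_top]; exact hJ
  obtain ⟨rs, hlen, hreg, hmem⟩ := (Groth.Agent.Helper8.Depth.le_idealDepth_iff hsm c).mp hc
  have hN : ∀ x ∈ rs, ∀ n : S ⧸ J, x • n = 0 := by
    intro x hx n
    obtain ⟨y, rfl⟩ := Ideal.Quotient.mk_surjective n
    rw [← Ideal.Quotient.mk_eq_mk, ← Submodule.Quotient.mk_smul]
    rw [Submodule.Quotient.mk_eq_zero]
    exact J.mul_mem_right y (hmem x hx)
  obtain ⟨e⟩ := rees_linearMap (S ⧸ J) S rs hreg hN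
  subst hlen
  have hQ : HasSk 2 S (S ⧸ (Ideal.ofList rs • ⊤ : Submodule S S)) := by
    have h1 := Groth.Agent.Helper8.Depth.hasSk_quotient_ofList (A := S) (M := S) (rs.length + 2)
      (Groth.Agent.Lib.Helper6.InvCM.hasSk_of_isCohenMacaulayRing S hCM (rs.length + 2)) rs hreg
      (by omega)
    rwa [show rs.length + 2 - rs.length = 2 by omega] at h1
  have h2 : HasSk 2 S ((S ⧸ J) →ₗ[S] (S ⧸ (Ideal.ofList rs • ⊤ : Submodule S S))) :=
    Groth.Agent.Helper4.DH.hasSk_linearMap S (S ⧸ J) _ 2 le_rfl hQ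
  let E : ((S ⧸ J) →ₗ[S] (S ⧸ (Ideal.ofList rs • ⊤ : Submodule S S))) ≃ₗ[S]
      (Dual.inD S (S ⧸ J) ⟶ (Dual.inD S S)⟦((rs.length : ℕ) : ℤ)⟧) :=
    e ≪≫ₗ Abelian.Ext.homLinearEquiv (R := S)
  exact ⟨Module.Finite.equiv E, Groth.Agent.Helper4.DH.hasSk_congr 2 E h2⟩

end Groth.Agent.Lib.Helper5.S2Rel
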