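import Mathlib
import Groth.Prelude.Def_Wider
import Groth.Prelude.Def_DDual2
import Groth.Prelude.Def_DualSh
import Groth.Agent.Lib.Helper3.FinCoh
import Groth.Agent.Lib.Helper3.LowOmega
import Groth.Agent.Lib.Helper5.SmFib.ExtLoc
import Groth.Agent.Lib.Helper5.S2Rel.CM
import Groth.Agent.Lib.Helper5.S2Rel.HomSk
import Groth.Agent.Lib.Helper5.S2Rel.Glue

/-!
# Vanishing and `(S₂)` for the localized relative dualizing complex over a Cohen–Macaulay base
(helper5)
-/

set_option autoImplicit false
universe u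
open CategoryTheory CategoryTheory.Limits DerivedCategory Pretriangulated Triangulated TensorProduct
  IsLocalRing AlgebraicGeometry

attribute [local instance] HasDerivedCategory.standard

namespace Groth.Agent.Lib.Helper5.S2Rel

open Groth.Agent.Helper3.BCAbs Groth.Agent.Helper3.BCDer Groth.Agent.Helper3.BCDual
  Groth.Agent.Helper3.BCDesc Groth.Agent.Helper5.FlatBC Groth.Agent.Helper3.DualCx
  Groth.Agent.Helper3.BCFlat Groth.Agent.Helper3.GorBC Groth.Agent.Helper3.FinAdj
  Groth.Agent.Lib.Helper5.SmFib LocCoh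

/-- the key transport: the localized cohomology of `φ^! R` is the `Ext` over the localized
polynomial ring -/
theorem key_transport (R A : Type u) [CommRing R] [CommRing A] [IsNoetherianRing R]
    [IsNoetherianRing A] [Algebra R A] (n : ℕ) (ψ : MvPolynomial (Fin n) R →ₐ[R] A)
    (hψ : Function.Surjective ψ) [DRing.HasLBaseChange (algebraMap R (MvPolynomial (Fin n) R))]
    (Rψ : Dual.D (MvPolynomial (Fin n) R) ⥤ Dual.D A) (adj : DRing.restrictD ψ.toRingHom ⊣ Rψ)
    (p : Ideal R) [p.IsPrime] (i j : ℤ) (hj : (n : ℤ) + i = j) :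
    (Subsingleton (Dual.inD (Localization (Algebra.algebraMapSubmonoid (MvPolynomial (Fin n) R)
        p.primeCompl))
        (Localization (Algebra.algebraMapSubmonoid (MvPolynomial (Fin n) R) p.primeCompl) ⧸
          (RingHom.ker ψ.toRingHom).map (algebraMap (MvPolynomial (Fin n) R)
            (Localization (Algebra.algebraMapSubmonoid (MvPolynomial (Fin n) R) p.primeCompl)))) ⟶
        (Dual.inD (Localization (Algebra.algebraMapSubmonoid (MvPolynomial (Fin n) R)
          p.primeCompl))
          (Localization (Algebra.algebraMapSubmonoid (MvPolynomial (Fin n) R)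
            p.primeCompl)))⟦j⟧) →
      Subsingleton (LocalizedModule (Algebra.algebraMapSubmonoid A p.primeCompl)
        (Dual.HD A (Dual2.shriekVia n Rψ (Dual.inD R R)) i))) ∧
    (∀ k : ℕ, Module.Finite (Localization (Algebra.algebraMapSubmonoid (MvPolynomial (Fin n) R)
        p.primeCompl))
      (Dual.inD (Localization (Algebra.algebraMapSubmonoid (MvPolynomial (Fin n) R)
        p.primeCompl))
        (Localization (Algebra.algebraMapSubmonoid (MvPolynomial (Fin n) R) p.primeCompl) ⧸
          (RingHom.ker ψ.toRingHom).map (algebraMap (MvPolynomial (Fin n) R)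
            (Localization (Algebra.algebraMapSubmonoid (MvPolynomial (Fin n) R) p.primeCompl)))) ⟶
        (Dual.inD (Localization (Algebra.algebraMapSubmonoid (MvPolynomial (Fin n) R)
          p.primeCompl))
          (Localization (Algebra.algebraMapSubmonoid (MvPolynomial (Fin n) R)
            p.primeCompl)))⟦j⟧) →
      HasSk k (Localization (Algebra.algebraMapSubmonoid (MvPolynomial (Fin n) R) p.primeCompl))
      (Dual.inD (Localization (Algebra.algebraMapSubmonoid (MvPolynomial (Fin n) R)
        p.primeCompl))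
        (Localization (Algebra.algebraMapSubmonoid (MvPolynomial (Fin n) R) p.primeCompl) ⧸
          (RingHom.ker ψ.toRingHom).map (algebraMap (MvPolynomial (Fin n) R)
            (Localization (Algebra.algebraMapSubmonoid (MvPolynomial (Fin n) R) p.primeCompl)))) ⟶
        (Dual.inD (Localization (Algebra.algebraMapSubmonoid (MvPolynomial (Fin n) R)
          p.primeCompl))
          (Localization (Algebra.algebraMapSubmonoid (MvPolynomial (Fin n) R)
            p.primeCompl)))⟦j⟧) →
      HasSk k (Localization (Algebra.algebraMapSubmonoid A p.primeCompl))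
        (LocalizedModule (Algebra.algebraMapSubmonoid A p.primeCompl)
          (Dual.HD A (Dual2.shriekVia n Rψ (Dual.inD R R)) i))) := by
  letI algPA : Algebra (MvPolynomial (Fin n) R) A := ψ.toRingHom.toAlgebra
  haveI : Module.Finite (MvPolynomial (Fin n) R) A :=
    Module.Finite.of_surjective (Algebra.linearMap (MvPolynomial (Fin n) R) A) hψ
  haveI : IsScalarTower R (MvPolynomial (Fin n) R) A :=
    IsScalarTower.of_algebraMap_eq (fun x => (ψ.commutes x).symm)
  set P := MvPolynomial (Fin n) R with hP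
  set SP : Submonoid P := Algebra.algebraMapSubmonoid P p.primeCompl with hSP
  set P' := Localization SP with hP'
  set I : Ideal P := RingHom.ker ψ.toRingHom with hI
  haveI : Module.Flat P P' := IsLocalization.flat _ SP
  haveI : IsNoetherianRing P' := IsLocalization.isNoetherianRing SP _ inferInstance
  set H := Dual.HD A (Dual2.shriekVia n Rψ (Dual.inD R R)) i with hH
  letI modPH : Module P H := Module.compHom H (algebraMap P A)
  haveI stH : IsScalarTower P A H := ⟨fun x a m => by
    change (x • a) • m = (algebraMap P A x) • (a • m)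
    rw [Algebra.smul_def, mul_smul]⟩
  have hT : Algebra.algebraMapSubmonoid A p.primeCompl = Algebra.algebraMapSubmonoid A SP := by
    rw [hSP]
    ext a
    simp only [Algebra.algebraMapSubmonoid, Submonoid.mem_map]
    constructor
    · rintro ⟨x, hx, rfl⟩
      exact ⟨algebraMap R P x, ⟨x, hx, rfl⟩, (IsScalarTower.algebraMap_apply R P A x).symm⟩
    · rintro ⟨y, ⟨x, hx, rfl⟩, rfl⟩
      exact ⟨x, hx, IsScalarTower.algebraMap_apply R P A x⟩
  -- the chain of identifications
  let X : Dual.D P := (DRing.LBaseChange (algebraMap R P)).obj (Dual.inD R R)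
  let eX : X ≅ Dual.inD P P := (lbcIsoG (A := R) P).app (Dual.inD R R) ≪≫ GselfIso (P := R) P
  let hsh : Dual.HD A (Rψ.obj X) j ≃ₗ[A] H :=
    (((DerivedCategory.homologyFunctor (ModuleCat.{u} A) 0).shiftIso (n : ℤ) i j
      hj).app (Rψ.obj X)).symm.toLinearEquiv
  let un := Groth.Agent.Helper3.HomUnit.unitEquiv (Rψ.obj X) j
  have hker : LinearMap.ker (Algebra.linearMap P A) = I := by
    ext y
    rfl
  let eA : (P ⧸ I) ≃ₗ[P] A :=
    (Submodule.quotEquivOfEq _ _ hker.symm) ≪≫ₗ
      LinearMap.quotKerEquivOfSurjective (Algebra.linearMap P A) hψ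
  let isoA : Dual.inD P (P ⧸ I) ≅ Dual.inD P A :=
    (DerivedCategory.singleFunctor (ModuleCat.{u} P) 0).mapIso eA.toModuleIso
  let homC : (Dual.inD P A ⟶ X⟦j⟧) ≃ₗ[P] (Dual.inD P (P ⧸ I) ⟶ (Dual.inD P P)⟦j⟧) :=
    Linear.homCongr P isoA.symm ((shiftFunctor (Dual.D P) j).mapIso eX)
  let ε₀ : H ≃+ (Dual.inD P (P ⧸ I) ⟶ (Dual.inD P P)⟦j⟧) :=
    ((hsh.symm.toAddEquiv.trans un.symm.toAddEquiv).trans
      (extT (A := P) (B := A) adj A X j)).trans homC.toAddEquiv
  let ε : H ≃ₗ[P] (Dual.inD P (P ⧸ I) ⟶ (Dual.inD P P)⟦j⟧) :=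
    { ε₀ with
      map_smul' := fun s x => by
        change homC (extT (A := P) (B := A) adj A X j (un.symm (hsh.symm (algebraMap P A s • x)))) =
          s • homC (extT (A := P) (B := A) adj A X j (un.symm (hsh.symm x)))
        rw [map_smul, map_smul, extT_smul, map_smul] }
  let φ : P' ⊗[P] H ≃ₗ[P']
      (Dual.inD P' (P' ⧸ I.map (algebraMap P P')) ⟶ (Dual.inD P' P')⟦j⟧) :=
    (TensorProduct.AlgebraTensorModule.congr (LinearEquiv.refl P' P') ε) ≪≫ₗ
      extBCEquiv P' (Dual.inD P P) (bdd_inD P) I j ≪≫ₗ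
      Linear.homCongr P' (Iso.refl _) ((shiftFunctor (Dual.D P') j).mapIso (GselfIso (P := P) P'))
  exact localizedModule_of_baseChange SP (Algebra.algebraMapSubmonoid A p.primeCompl) hT H _ φ

theorem main_S8947 (R A : Type u) [CommRing R] [CommRing A] [IsNoetherianRing R]
    [IsNoetherianRing A] [Algebra R A] (n : ℕ) (ψ : MvPolynomial (Fin n) R →ₐ[R] A)
    (hψ : Function.Surjective ψ) [DRing.HasLBaseChange (algebraMap R (MvPolynomial (Fin n) R))]
    (Rψ : Dual.D (MvPolynomial (Fin n) R) ⥤ Dual.D A) (adj : DRing.restrictD ψ.toRingHom ⊣ Rψ)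
    (p : Ideal R) [p.IsPrime] [LocCoh.IsCohenMacaulayLocalRing (Localization.AtPrime p)] (r : ℕ)
    (hr : ∀ q : PrimeSpectrum A, q.asIdeal ∈ minimalPrimes A →
      Dual3.resTrdeg (Spec.map (CommRingCat.ofHom (algebraMap R A))) q ≤ (r : Cardinal.{u})) :
    (∀ i : ℤ, Nontrivial (LocalizedModule (Algebra.algebraMapSubmonoid A p.primeCompl)
      (Dual.HD A (Dual2.shriekVia n Rψ (Dual.inD R R)) i)) → -(r : ℤ) ≤ i) ∧
    LocCoh.HasSk 2 (Localization (Algebra.algebraMapSubmonoid A p.primeCompl))
      (LocalizedModule (Algebra.algebraMapSubmonoid A p.primeCompl)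
        (Dual.HD A (Dual2.shriekVia n Rψ (Dual.inD R R)) (-(r : ℤ)))) := by
  have key := key_transport R A n ψ hψ Rψ adj p
  set P := MvPolynomial (Fin n) R with hP
  set SP : Submonoid P := Algebra.algebraMapSubmonoid P p.primeCompl with hSP
  set P' := Localization SP with hP'
  set I : Ideal P := RingHom.ker ψ.toRingHom with hI
  haveI : IsNoetherianRing P' := IsLocalization.isNoetherianRing SP _ inferInstance
  by_cases hI' : I.map (algebraMap P P') = ⊤
  · -- the localization of `A` is zero
    have hz : ∀ j : ℤ, Subsingleton (Dual.inD P' (P' ⧸ I.map (algebraMap P P')) ⟶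
        (Dual.inD P' P')⟦j⟧) := by
      intro j
      haveI : Subsingleton (P' ⧸ I.map (algebraMap P P')) :=
        Ideal.Quotient.subsingleton_iff.mpr hI'
      have h0 : IsZero (ModuleCat.of P' (P' ⧸ I.map (algebraMap P P'))) :=
        ModuleCat.isZero_of_subsingleton _
      have h1 : IsZero (Dual.inD P' (P' ⧸ I.map (algebraMap P P'))) :=
        (DerivedCategory.singleFunctor (ModuleCat.{u} P') 0).map_isZero h0
      exact ⟨fun f g => h1.eq_of_src f g⟩
    refine ⟨fun i hnt => ?_, ?_⟩
    · exact absurd ((key i _ rfl).1 (hz _)) (not_subsingleton_iff_nontrivial.mpr hnt)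
    · haveI := (key (-(r : ℤ)) _ rfl).1 (hz _)
      exact Groth.Agent.Helper3.LowOmega.hasSk_of_subsingleton 2 _ _
  · have hdepth := le_idealDepth_map_ker R A n ψ hψ r hr p hI'
    have hCM := isCohenMacaulayRing_localization_mvPolynomial R n p
    refine ⟨fun i hnt => ?_, ?_⟩
    · by_contra hlt
      push Not at hlt
      have h1 : Subsingleton (Dual.inD P' (P' ⧸ I.map (algebraMap P P')) ⟶
          (Dual.inD P' P')⟦(n : ℤ) + i⟧) :=
        subsingleton_hom_of_le_idealDepth (I.map (algebraMap P P')) hI' (n - r) hdepth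
          ((n : ℤ) + i) (by omega)
      exact (not_subsingleton_iff_nontrivial.mpr hnt) ((key i _ rfl).1 h1)
    · by_cases hrn : r ≤ n
      · obtain ⟨hfin, hsk⟩ := hasSk_extHom P' hCM (I.map (algebraMap P P')) hI' (n - r) hdepth
        exact (key (-(r : ℤ)) ((n - r : ℕ) : ℤ) (by omega)).2 2 hfin hsk
      · have h1 : Subsingleton (Dual.inD P' (P' ⧸ I.map (algebraMap P P')) ⟶
            (Dual.inD P' P')⟦(n : ℤ) + -(r : ℤ)⟧) :=
          subsingleton_hom_of_le_idealDepth (I.map (algebraMap P P')) hI' 0 (by simp)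
            ((n : ℤ) + -(r : ℤ)) (by push_cast; omega)
        haveI := (key (-(r : ℤ)) _ rfl).1 h1
        exact Groth.Agent.Helper3.LowOmega.hasSk_of_subsingleton 2 _ _

end Groth.Agent.Lib.Helper5.S2Rel
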